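import Cfsg.Agent.Omega.NOThreeL.RTransvPlug

/-!
# NO-3L, R ∩ (A), `q = 2`, `k = 1` (#17122, helper858): the natural module

`V = V_P`, `V / D` natural for `SL₂(2)`, `U = U_H` acts on `V / D` by the root group and centralises `D`.

* `Crd` : the coordinates; `NatS S P H D t p` : the facts used in #17122: `[V, U] = ⟨t⟩`, `a = p t p⁻¹`,
  `u a u⁻¹ = a t`, `V = ⟨a⟩ C_V(U)`, `Z ≤ ⟨t⟩ D`, `[U, D] = [p, D] = 1`, `S p ≤ p H ∪ u p H`, and
  `C_Z(p u p⁻¹) ≤ C_Z(P)`;
* `Crd.exists_nat`.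
-/

set_option autoImplicit false
set_option linter.unusedSectionVars false

namespace Cfsg.Agent.Omega.NOThreeL.RAOne

open Subgroup Cfsg Cfsg.Agent.ZN Cfsg.Agent.Omega.MinPar Cfsg.Agent.Omega.Frame Cfsg.Agent.Omega.FrameNOFF
open Cfsg.Agent.Omega.Node.NO3L Cfsg.Agent.Omega.NOThreeL.Basic Cfsg.Agent.Omega.NOThreeL.RTransv
open Cfsg.Agent.Omega.NoFF.Basic (V conj_conj mem_conj conj_le_iff conj_le_centralizer comm_symm comm_mono
  Z_le_V V_le conj_V_mul)
open Cfsg.Agent.Omega.NOThreeL.Pair (conj_eq_of_mem conj_le_normalizer zl_abel)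
open Cfsg.Agent.Omega.NOThreeL.AOne (Act)
open Cfsg.Agent.Omega.FFThm (Off NoOver Concl NatK SymK ActsSL)
open Cfsg.Agent.Omega.NatPair (ap ap_mul ap_one ap_inv_ap)
open Cfsg.Agent.Lib.SL2Mat
open Cfsg.Agent.MinSimple.VModule (zl_le le_normalizer_zl zc_le_zl zc_le mem_zc
  normalizer_le_normalizer_zc)
open scoped Pointwise

universe u

variable {G : Type u} [Group G]

/-- The facts on `V_P` used in #17122; `a = p t p⁻¹`. -/
structure NatS (S P H D : Subgroup G) (t p : G) : Prop extends Two S P H t p where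
  t1 : t ≠ 1
  DV : D ≤ zl S P
  pD : p ∈ centralizer (D : Set G)
  UD : zl S H ≤ centralizer (D : Set G)
  /-- `[u, a] = t` -/
  ua : ∀ u ∈ zl S H, u ∉ centralizer (zl S P : Set G) → u * (p * t * p⁻¹) * u⁻¹ = p * t * p⁻¹ * t
  /-- `[p u p⁻¹, t] = a` -/
  ut' : ∀ u ∈ zl S H, u ∉ centralizer (zl S P : Set G) →
    (p * u * p⁻¹) * t * (p * u * p⁻¹)⁻¹ = p * t * p⁻¹ * t
  /-- `V = ⟨a⟩ C_V(U)` -/
  Va : ∀ v ∈ zl S P, v ∈ centralizer (zl S H : Set G) ∨
    v * (p * t * p⁻¹)⁻¹ ∈ centralizer (zl S H : Set G)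
  ZD : ∀ z ∈ zc S, z ∈ D ∨ z * t⁻¹ ∈ D
  Sp : ∀ s ∈ S, ∀ u ∈ zl S H, u ∉ centralizer (zl S P : Set G) →
    p⁻¹ * s * p ∈ H ∨ p⁻¹ * (u⁻¹ * s) * p ∈ H
  cen : ∀ z ∈ zc S, ∀ u ∈ zl S H, u ∉ centralizer (zl S P : Set G) →
    p * u * p⁻¹ * z = z * (p * u * p⁻¹) → P ≤ centralizer ({z} : Set G)

/-- Coordinates of `V / D` over a field `F` with two elements. -/
structure Crd (F : Type) [Field F] (S P H D : Subgroup G) (e : G → Fin 2 → F) : Prop where
  two : ∀ x : F, x = 0 ∨ x = 1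
  mul : ∀ v ∈ zl S P, ∀ w ∈ zl S P, e (v * w) = e v + e w
  surj : ∀ x : Fin 2 → F, ∃ v ∈ zl S P, e v = x
  ker : ∀ v ∈ zl S P, e v = 0 ↔ v ∈ D
  DV : D ≤ zl S P
  PD : P ≤ normalizer (D : Set G)
  lift : ∀ A, ∃ g ∈ P, Act e (zl S P) g A ∧ g ∈ centralizer (D : Set G)
  line : ∀ s ∈ S, ∀ v ∈ zl S P, e (s * v * s⁻¹) 1 = 0 ↔ e v 1 = 0
  gen : ∀ K : Subgroup G, S ≤ K →
    (∀ h ∈ P, h ∈ centralizer (D : Set G) → ∀ A, Act e (zl S P) h A → h ∈ K) → P ≤ K
  act : ∀ u ∈ zl S H, ∃ b : F, Act e (zl S P) u (up b) ∧ u ∈ centralizer (D : Set G)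

section mat

variable {F : Type} [Field F]

theorem ap_up' (b : F) (x : Fin 2 → F) : ap (up b) x = ![x 0 + b * x 1, x 1] := by
  funext i
  fin_cases i
  · exact AOne.ap_up_0 b x
  · change ap (up b) x 1 = x 1
    rw [NatPair.ap_eq_mulVec, Matrix.mulVec, dotProduct, Fin.sum_univ_two]
    change ent (up b) 1 0 * x 0 + ent (up b) 1 1 * x 1 = _
    rw [up_10, up_11, zero_mul, zero_add, one_mul]

theorem ap_lo' (b : F) (x : Fin 2 → F) : ap (lo b) x = ![x 0, b * x 0 + x 1] := by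
  funext i
  fin_cases i
  · change ap (lo b) x 0 = x 0
    rw [NatPair.ap_eq_mulVec, Matrix.mulVec, dotProduct, Fin.sum_univ_two]
    change ent (lo b) 0 0 * x 0 + ent (lo b) 0 1 * x 1 = _
    rw [lo_00, lo_01, zero_mul, add_zero, one_mul]
  · exact AOne.ap_lo_1 b x

theorem conj_word [CharP F 2] : up 1 * lo 1 * up (1 : F) * (up 1 * lo 1)⁻¹ = lo 1 := by
  have h2 : (1 : F) + 1 = 0 := CharTwo.add_self_eq_zero 1
  have hu : (up (1 : F))⁻¹ = up 1 := by
    rw [inv_eq_iff_mul_eq_one, up_mul, h2, up_zero]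
  have hl : (lo (1 : F))⁻¹ = lo 1 := by
    rw [inv_eq_iff_mul_eq_one, lo_mul, h2, lo_zero]
  rw [mul_inv_rev, hu, hl]
  apply ext_ent <;> simp only [ent_mul, up_00, up_01, up_10, up_11, lo_00, lo_01, lo_10, lo_11,
    mul_one, mul_zero, add_zero, zero_add, h2]

end mat

namespace Crd

variable [Finite G] {S : Sylow 2 G} {P H D : Subgroup G}
variable {F : Type} [Field F] {e : G → Fin 2 → F}
variable (C : Crd F (S : Subgroup G) P H D e)

/-- `H₁ ≤ H` -/
theorem mono {H₁ : Subgroup G} (C : Crd F (S : Subgroup G) P H D e)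
    (h : zl (S : Subgroup G) H₁ ≤ zl (S : Subgroup G) H) : Crd F (S : Subgroup G) P H₁ D e :=
  { C with act := fun u hu => C.act u (h hu) }

section basic

include C

omit [Finite G] in
theorem e_one : e 1 = 0 := by
  have := C.mul 1 (zl (S : Subgroup G) P).one_mem 1 (zl (S : Subgroup G) P).one_mem
  rw [mul_one] at this
  exact left_eq_add.1 this

omit [Finite G] in
theorem e_inv {v : G} (hv : v ∈ zl (S : Subgroup G) P) : e v⁻¹ = - e v := by
  have := C.mul v⁻¹ ((zl (S : Subgroup G) P).inv_mem hv) v hv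
  rw [inv_mul_cancel, C.e_one] at this
  exact (neg_eq_of_add_eq_zero_left this.symm).symm

omit [Finite G] in
theorem eq_one {x : F} (hx : x ≠ 0) : x = 1 := (C.two x).resolve_left hx

omit [Finite G] C in
theorem nP {g : G} (hg : g ∈ P) : g ∈ normalizer (zl (S : Subgroup G) P : Set G) :=
  le_normalizer_zl _ _ hg

omit [Finite G] C in
theorem con {g v : G} (hg : g ∈ P) (hv : v ∈ zl (S : Subgroup G) P) :
    g * v * g⁻¹ ∈ zl (S : Subgroup G) P :=
  (mem_normalizer_iff.1 (nP hg) _).1 hv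

end basic

section main

variable (hc : IsCharacteristicTwoType G) (hPH : PairA (S : Subgroup G) P H)
include hc hPH

theorem sqV : ∀ v ∈ zl (S : Subgroup G) P, v * v = 1 := fun v hv => by
  rw [← pow_two]; exact (FFThm.elem_zl hc S hPH.par.isLoc).2 v hv

theorem abV : ∀ v ∈ zl (S : Subgroup G) P, ∀ w ∈ zl (S : Subgroup G) P, v * w = w * v := fun v hv w hw =>
  congrArg Subtype.val ((FFThm.elem_zl hc S hPH.par.isLoc).1.1.1 ⟨v, hv⟩ ⟨w, hw⟩)

theorem US : zl (S : Subgroup G) H ≤ (S : Subgroup G) := IsLong.zl_le_S hc hPH.long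

theorem UP : zl (S : Subgroup G) H ≤ P := (US hc hPH).trans hPH.par.le

include C

/-- an element acting trivially on `V / D` and `D` centralises `V` -/
theorem cent {x : G} (hx : x ∈ P) (h1 : ∀ v ∈ zl (S : Subgroup G) P, e (x * v * x⁻¹) = e v)
    (h3 : x ∈ centralizer (D : Set G)) : x ∈ centralizer (zl (S : Subgroup G) P : Set G) := by
  refine le_centralizer S hPH.par.le C.DV C.PD (sqV hc hPH) ⟨nP hx, fun v hv => ?_⟩ h3
  rw [← C.ker _ ((zl (S : Subgroup G) P).mul_mem (con hx hv) ((zl (S : Subgroup G) P).inv_mem hv)),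
    C.mul _ (con hx hv) _ ((zl (S : Subgroup G) P).inv_mem hv), h1 v hv, C.e_inv hv, add_neg_cancel]

theorem act1 {u : G} (hu : u ∈ zl (S : Subgroup G) H) (huV : u ∉ centralizer (zl (S : Subgroup G) P : Set G)) :
    Act e (zl (S : Subgroup G) P) u (up 1) ∧ u ∈ centralizer (D : Set G) := by
  obtain ⟨b, h1, h3⟩ := C.act u hu
  by_cases hb : b = 0
  · exfalso
    refine huV (C.cent hc hPH (UP hc hPH hu) (fun v hv => ?_) h3)
    rw [h1 v hv, hb, up_zero, ap_one]
  · rw [C.eq_one hb] at h1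
    exact ⟨h1, h3⟩

/-- two elements with the same action -/
theorem same {x y : G} {A : Matrix.SpecialLinearGroup (Fin 2) F} (hx : x ∈ P) (hy : y ∈ P)
    (hxA : Act e (zl (S : Subgroup G) P) x A) (hyA : Act e (zl (S : Subgroup G) P) y A)
    (hxD : x ∈ centralizer (D : Set G)) (hyD : y ∈ centralizer (D : Set G)) {v : G}
    (hv : v ∈ zl (S : Subgroup G) P) : x * v * x⁻¹ = y * v * y⁻¹ := by
  have h1 : y⁻¹ * x ∈ centralizer (zl (S : Subgroup G) P : Set G) := by
    refine C.cent hc hPH (mul_mem (inv_mem hy) hx) ?_ (mul_mem (inv_mem hyD) hxD)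
    have h3 := (hyA.inv (nP hy)).mul hxA (nP hx)
    rw [inv_mul_cancel] at h3
    intro w hw
    rw [h3 w hw, ap_one]
  have h2 := mem_centralizer_iff.1 h1 v hv
  calc x * v * x⁻¹ = y * (y⁻¹ * x * v) * x⁻¹ := by group
    _ = y * (v * (y⁻¹ * x)) * x⁻¹ := by rw [h2]
    _ = y * v * y⁻¹ := by group

/-- a point of `Z` -/
theorem exists_z : ∃ z ∈ zc (S : Subgroup G), e z = ![1, 0] := by
  by_contra hcon'
  push Not at hcon'
  obtain ⟨u₀, hu₀, hu₀V⟩ := SetLike.not_le_iff_exists.1 hPH.ne'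
  obtain ⟨a₀, d₀⟩ := C.act1 hc hPH hu₀ hu₀V
  have hZD : zc (S : Subgroup G) ≤ D := by
    intro z hz
    have hzW : z ∈ zl (S : Subgroup G) P := zc_le_zl _ _ hz
    by_contra hzD
    refine hcon' z hz ?_
    have h1 : e z ≠ 0 := fun h => hzD ((C.ker z hzW).1 h)
    have h3 := a₀ z hzW
    have h4 : u₀ * z * u₀⁻¹ = z := by
      rw [(mem_zc.1 hz).2.1 u₀ (US hc hPH hu₀)]
      group
    rw [h4, ap_up'] at h3
    have h5 : e z 0 = e z 0 + 1 * e z 1 := congrFun h3 0
    have h6 : e z 1 = 0 := by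
      rw [one_mul] at h5
      exact (left_eq_add.1 h5)
    have h7 : e z 0 = 1 := by
      refine C.eq_one fun h => h1 ?_
      funext i
      fin_cases i
      · exact h
      · exact h6
    funext i
    fin_cases i
    · exact h7
    · exact h6
  have h1 : zl (S : Subgroup G) P ≤ D := zl_le hZD C.PD
  obtain ⟨w, hw, hew⟩ := C.surj ![0, 1]
  have h3 := (C.ker w hw).2 (h1 hw)
  rw [hew] at h3
  have := congrFun h3 1
  simp at this

/-- (c1) -/
theorem c1 {u v : G} (hu : u ∈ zl (S : Subgroup G) H) (hv : v ∈ zl (S : Subgroup G) P) (h1 : e v 1 = 0) :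
    u * v * u⁻¹ = v := by
  obtain ⟨z, hz, hez⟩ := C.exists_z hc hPH
  have hzW : z ∈ zl (S : Subgroup G) P := zc_le_zl _ _ hz
  obtain ⟨b, -, hd⟩ := C.act u hu
  have hzu : u * z = z * u := (mem_zc.1 hz).2.1 u (US hc hPH hu)
  rcases C.two (e v 0) with h0 | h0
  · have h3 : v ∈ D := (C.ker v hv).1 (by funext i; fin_cases i; exacts [h0, h1])
    rw [← mem_centralizer_iff.1 hd v h3]
    group
  · have h3 : v * z⁻¹ ∈ D := by
      rw [← C.ker _ ((zl (S : Subgroup G) P).mul_mem hv ((zl (S : Subgroup G) P).inv_mem hzW)),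
        C.mul v hv _ ((zl (S : Subgroup G) P).inv_mem hzW), C.e_inv hzW, hez]
      funext i
      fin_cases i
      · change e v 0 + -(1 : F) = 0
        rw [h0, add_neg_cancel]
      · change e v 1 + -(0 : F) = 0
        rw [h1, neg_zero, add_zero]
    have h4 := mem_centralizer_iff.1 hd _ h3
    have h5 : u * (v * z⁻¹) * z = v * z⁻¹ * z * u := by
      rw [← h4, mul_assoc, mul_assoc, hzu]
      group
    have h6 : u * v = v * u := by
      calc u * v = u * (v * z⁻¹) * z := by group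
        _ = v * z⁻¹ * z * u := h5
        _ = v * u := by group
    rw [h6]
    group

/-- (c2) -/
theorem exists_t : ∃ t ∈ zc (S : Subgroup G), e t = ![1, 0] ∧
    ∀ u ∈ zl (S : Subgroup G) H, u ∉ centralizer (zl (S : Subgroup G) P : Set G) →
      ∀ v ∈ zl (S : Subgroup G) P, e v 1 ≠ 0 → u * v * u⁻¹ * v⁻¹ = t := by
  obtain ⟨u₀, hu₀, hu₀V⟩ := SetLike.not_le_iff_exists.1 hPH.ne'
  obtain ⟨a₀, d₀⟩ := C.act1 hc hPH hu₀ hu₀V
  obtain ⟨w, hw, hew0⟩ := C.surj ![0, 1]
  have hVS : zl (S : Subgroup G) P ≤ (S : Subgroup G) := IsParS.zl_le_S hc hPH.par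
  have hSU : (S : Subgroup G) ≤ normalizer (zl (S : Subgroup G) H : Set G) :=
    hPH.long.loc.le.trans (le_normalizer_zl _ _)
  set t := u₀ * w * u₀⁻¹ * w⁻¹ with ht
  -- (c2)
  have c2 : ∀ u ∈ zl (S : Subgroup G) H, u ∉ centralizer (zl (S : Subgroup G) P : Set G) →
      ∀ v ∈ zl (S : Subgroup G) P, e v 1 ≠ 0 → u * v * u⁻¹ * v⁻¹ = t := by
    intro u hu huV v hv h1
    obtain ⟨a, d⟩ := C.act1 hc hPH hu huV
    have h4 : u * w * u⁻¹ = u₀ * w * u₀⁻¹ :=
      C.same hc hPH (UP hc hPH hu) (UP hc hPH hu₀) a a₀ d d₀ hw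
    have h5 : e (v * w⁻¹) 1 = 0 := by
      rw [C.mul v hv _ (inv_mem hw), C.e_inv hw, hew0, Pi.add_apply, Pi.neg_apply, C.eq_one h1]
      change (1 : F) + -1 = 0
      rw [add_neg_cancel]
    have h6 := C.c1 hc hPH hu (mul_mem hv (inv_mem hw)) h5
    have h7 : u * v * u⁻¹ * v⁻¹ = (u * (v * w⁻¹) * u⁻¹) * (u * w * u⁻¹ * w⁻¹) * (v * w⁻¹)⁻¹ := by group
    have htW : u * w * u⁻¹ * w⁻¹ ∈ zl (S : Subgroup G) P := mul_mem (con (UP hc hPH hu) hw) (inv_mem hw)
    rw [h7, h6, abV hc hPH _ (mul_mem hv (inv_mem hw)) _ htW, mul_inv_cancel_right, h4, ht]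
  have htW : t ∈ zl (S : Subgroup G) P := mul_mem (con (UP hc hPH hu₀) hw) (inv_mem hw)
  refine ⟨t, mem_zc.2 ⟨hVS htW, fun s hs => ?_, by rw [pow_two]; exact sqV hc hPH t htW⟩, ?_, c2⟩
  · have hsU : s * u₀ * s⁻¹ ∈ zl (S : Subgroup G) H := (mem_normalizer_iff.1 (hSU hs) _).1 hu₀
    have hsV : s * u₀ * s⁻¹ ∉ centralizer (zl (S : Subgroup G) P : Set G) := fun h =>
      hu₀V ((mem_normalizer_iff.1 (conj_cent (nP (hPH.par.le hs))) _).2 h)
    have h1 : e (s * w * s⁻¹) 1 ≠ 0 := by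
      intro h4
      have h5 : e w 1 = 0 := (C.line s hs w hw).1 h4
      rw [hew0] at h5
      exact one_ne_zero h5
    have h3 := c2 _ hsU hsV _ (con (hPH.par.le hs) hw) h1
    have h4 : s * u₀ * s⁻¹ * (s * w * s⁻¹) * (s * u₀ * s⁻¹)⁻¹ * (s * w * s⁻¹)⁻¹ = s * t * s⁻¹ := by
      rw [ht]; group
    rw [h4] at h3
    calc s * t = s * t * s⁻¹ * s := by group
      _ = t * s := by rw [h3]
  · rw [ht, C.mul _ (con (UP hc hPH hu₀) hw) _ (inv_mem hw), a₀ w hw, C.e_inv hw, hew0, ap_up']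
    funext i
    fin_cases i
    · simp
    · simp

end main

section nat

variable [CharP F 2] (hc : IsCharacteristicTwoType G) (hPH : PairA (S : Subgroup G) P H)
include hc hPH C

/-- an element of `C_S(V / D)` fixes `a` -/
theorem fix_a {t p : G} (htZ : t ∈ zc (S : Subgroup G)) (hp : p ∈ P)
    (hpA : Act e (zl (S : Subgroup G) P) p (up 1 * lo 1)) (hpD : p ∈ centralizer (D : Set G))
    (het : e t = ![1, 0])
    (hat : ∀ u ∈ zl (S : Subgroup G) H, u ∉ centralizer (zl (S : Subgroup G) P : Set G) →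
      (p * u * p⁻¹) * t * (p * u * p⁻¹)⁻¹ = p * t * p⁻¹ * t)
    {c : G} (hcS : c ∈ (S : Subgroup G)) (hca : e (c * (p * t * p⁻¹) * c⁻¹) = ![0, 1]) :
    c * (p * t * p⁻¹) = p * t * p⁻¹ * c := by
  have hcP : c ∈ P := hPH.par.le hcS
  have htV : t ∈ zl (S : Subgroup G) P := zc_le_zl _ _ htZ
  set a := p * t * p⁻¹ with ha
  have haV : a ∈ zl (S : Subgroup G) P := con hp htV
  have hea : e a = ![0, 1] := by
    rw [ha, hpA t htV, ap_mul, het, ap_lo', ap_up']
    funext i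
    fin_cases i
    · simp [CharTwo.add_self_eq_zero]
    · simp
  have hct : c * t * c⁻¹ = t := by
    rw [(mem_zc.1 htZ).2.1 c hcS]
    group
  obtain ⟨u, hu, huV⟩ := SetLike.not_le_iff_exists.1 hPH.ne'
  obtain ⟨aU, dU⟩ := C.act1 hc hPH hu huV
  -- `c` is trivial on `V / D`
  have hconj : ∀ {v}, v ∈ zl (S : Subgroup G) P → c * v * c⁻¹ ∈ zl (S : Subgroup G) P := fun hv => con hcP hv
  have hadd : ∀ v ∈ zl (S : Subgroup G) P, ∀ w ∈ zl (S : Subgroup G) P,
      e (c * (v * w) * c⁻¹) = e (c * v * c⁻¹) + e (c * w * c⁻¹) := by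
    intro v hv w hw
    rw [← C.mul _ (hconj hv) _ (hconj hw)]
    congr 1
    group
  have hDc : ∀ d ∈ D, e (c * d * c⁻¹) = 0 := fun d hd =>
    (C.ker _ (hconj (C.DV hd))).2 ((mem_normalizer_iff.1 (C.PD hcP) d).1 hd)
  have htriv : ∀ v ∈ zl (S : Subgroup G) P, e (c * v * c⁻¹) = e v := by
    -- `v = w d`
    have key : ∀ w ∈ zl (S : Subgroup G) P, e (c * w * c⁻¹) = e w → ∀ v ∈ zl (S : Subgroup G) P, e v = e w →
        e (c * v * c⁻¹) = e v := by
      intro w hw hcw v hv hvw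
      have h1 : v * w⁻¹ ∈ D := by
        rw [← C.ker _ (mul_mem hv (inv_mem hw)), C.mul v hv _ (inv_mem hw), C.e_inv hw, hvw, add_neg_cancel]
      have h2 := hadd (v * w⁻¹) (mul_mem hv (inv_mem hw)) w hw
      rw [inv_mul_cancel_right, hDc _ h1, hcw, zero_add] at h2
      rw [h2, hvw]
    intro v hv
    have htt : e (c * t * c⁻¹) = e t := by rw [hct]
    have haa : e (c * a * c⁻¹) = e a := by rw [hca, hea]
    rcases C.two (e v 0) with h0 | h0 <;> rcases C.two (e v 1) with h1 | h1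
    · refine key 1 (one_mem _) (by rw [mul_one, mul_inv_cancel]) v hv ?_
      rw [C.e_one]
      funext i; fin_cases i; exacts [h0, h1]
    · refine key a haV haa v hv ?_
      rw [hea]
      funext i; fin_cases i; exacts [h0, h1]
    · refine key t htV htt v hv ?_
      rw [het]
      funext i; fin_cases i; exacts [h0, h1]
    · refine key (t * a) (mul_mem htV haV) ?_ v hv ?_
      · rw [hadd t htV a haV, htt, haa, C.mul t htV a haV]
      · rw [C.mul t htV a haV, het, hea]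
        funext i
        fin_cases i
        · simpa using h0
        · simpa using h1
  -- `u' = p u p⁻¹` and `c⁻¹ u' c` act in the same way
  have hu'P : p * u * p⁻¹ ∈ P := mul_mem (mul_mem hp (UP hc hPH hu)) (inv_mem hp)
  have hu'D : p * u * p⁻¹ ∈ centralizer (D : Set G) := mul_mem (mul_mem hpD dU) (inv_mem hpD)
  have hu'A := (hpA.mul aU (nP (UP hc hPH hu))).mul (hpA.inv (nP hp)) (inv_mem (nP hp))
  have hcA : Act e (zl (S : Subgroup G) P) c 1 := fun v hv => by rw [ap_one]; exact htriv v hv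
  have h1A := ((hcA.inv (nP hcP)).mul hu'A (nP hu'P)).mul hcA (nP hcP)
  rw [inv_one, one_mul, mul_one] at h1A
  have hD1 : c⁻¹ * (p * u * p⁻¹) * c ∈ centralizer (D : Set G) := by
    have h1 := (mem_normalizer_iff.1 (conj_cent (inv_mem (C.PD hcP))) _).1 hu'D
    rwa [inv_inv] at h1
  have h1 := C.same hc hPH (mul_mem (mul_mem (inv_mem hcP) hu'P) hcP) hu'P h1A hu'A hD1 hu'D htV
  rw [hat u hu huV] at h1
  have hct' : c * t = t * c := by
    rw [(mem_zc.1 htZ).2.1 c hcS]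
  have h2 : c⁻¹ * (p * u * p⁻¹) * c * t * (c⁻¹ * (p * u * p⁻¹) * c)⁻¹ =
      c⁻¹ * ((p * u * p⁻¹) * (c * t * c⁻¹) * (p * u * p⁻¹)⁻¹) * c := by group
  rw [h2, hct, hat u hu huV] at h1
  have h3 : a * t * c = c * (a * t) := by
    calc a * t * c = c * (c⁻¹ * (a * t) * c) := by group
      _ = c * (a * t) := by rw [h1]
  have h4 : a * c * t = c * a * t := by
    calc a * c * t = a * (c * t) := by group
      _ = a * t * c := by rw [hct']; group
      _ = c * a * t := by rw [h3]; group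
  exact (mul_right_cancel h4).symm

/-- **`NatS`.** -/
theorem exists_nat (hgen : Gen (S : Subgroup G) H) : ∃ t p, NatS (S : Subgroup G) P H D t p := by
  obtain ⟨t, htZ, het, c2⟩ := C.exists_t hc hPH
  obtain ⟨p, hp, hpA, hpD⟩ := C.lift (up 1 * lo 1)
  have h2 : (1 : F) + 1 = 0 := CharTwo.add_self_eq_zero 1
  have hneg : (-1 : F) = 1 := by
    rw [neg_eq_iff_add_eq_zero, h2]
  have htV : t ∈ zl (S : Subgroup G) P := zc_le_zl _ _ htZ
  have ht1 : t ≠ 1 := by
    rintro rfl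
    rw [C.e_one] at het
    exact one_ne_zero (congrFun het 0).symm
  have htt : t * t = 1 := sqV hc hPH t htV
  set a := p * t * p⁻¹ with ha
  have haV : a ∈ zl (S : Subgroup G) P := con hp htV
  have hea : e a = ![0, 1] := by
    rw [ha, hpA t htV, ap_mul, het, ap_lo', ap_up']
    funext i
    fin_cases i
    · simp [CharTwo.add_self_eq_zero]
    · simp
  have hab := abV hc hPH
  have hUP := UP hc hPH
  have hUS := US hc hPH
  have hua : ∀ u ∈ zl (S : Subgroup G) H, u ∉ centralizer (zl (S : Subgroup G) P : Set G) →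
      u * a * u⁻¹ = a * t := by
    intro u hu huV
    have h1 := c2 u hu huV a haV (by rw [hea]; exact one_ne_zero)
    rw [hab a haV t htV, ← h1]
    group
  have hut : ∀ u ∈ zl (S : Subgroup G) H, u ∉ centralizer (zl (S : Subgroup G) P : Set G) →
      (p * u * p⁻¹) * t * (p * u * p⁻¹)⁻¹ = a * t := by
    intro u hu huV
    have hv : p⁻¹ * t * p ∈ zl (S : Subgroup G) P := by
      have := con (S := S) (inv_mem hp) htV
      rwa [inv_inv] at this
    have hev : e (p⁻¹ * t * p) 1 ≠ 0 := by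
      have h1 := hpA.inv (nP hp) t htV
      rw [inv_inv] at h1
      intro h0
      have h3 : ap (up 1 * lo 1) (e (p⁻¹ * t * p)) = e t := by
        rw [h1, ← ap_mul, mul_inv_cancel, ap_one]
      rw [ap_mul, ap_lo', ap_up', het] at h3
      have h4 := congrFun h3 0
      have h5 := congrFun h3 1
      simp only [Matrix.cons_val_zero, Matrix.cons_val_one, h0, add_zero, one_mul] at h4 h5
      rw [h5, add_zero] at h4
      exact zero_ne_one h4
    have h1 := c2 u hu huV _ hv hev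
    have h3 : u * (p⁻¹ * t * p) * u⁻¹ = t * (p⁻¹ * t * p) := by
      calc u * (p⁻¹ * t * p) * u⁻¹ = (u * (p⁻¹ * t * p) * u⁻¹ * (p⁻¹ * t * p)⁻¹) * (p⁻¹ * t * p) := by group
        _ = t * (p⁻¹ * t * p) := by rw [h1]
    calc (p * u * p⁻¹) * t * (p * u * p⁻¹)⁻¹ = p * (u * (p⁻¹ * t * p) * u⁻¹) * p⁻¹ := by group
      _ = p * (t * (p⁻¹ * t * p)) * p⁻¹ := by rw [h3]
      _ = a * t := by rw [ha]; group
  have hctZ : centralizer (zl (S : Subgroup G) P : Set G) ≤ H :=
    (centralizer_le (zc_le_zl _ _)).trans hPH.long.cz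
  have ZD : ∀ z ∈ zc (S : Subgroup G), z ∈ D ∨ z * t⁻¹ ∈ D := by
    intro z hz
    have hzV : z ∈ zl (S : Subgroup G) P := zc_le_zl _ _ hz
    obtain ⟨u₀, hu₀, hu₀V⟩ := SetLike.not_le_iff_exists.1 hPH.ne'
    have h1 : e z 1 = 0 := by
      by_contra h0
      apply ht1
      rw [← c2 u₀ hu₀ hu₀V z hzV h0, (mem_zc.1 hz).2.1 u₀ (hUS hu₀)]
      group
    rcases C.two (e z 0) with h0 | h0
    · left
      exact (C.ker z hzV).1 (by funext i; fin_cases i; exacts [h0, h1])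
    · right
      rw [← C.ker _ (mul_mem hzV (inv_mem htV)), C.mul z hzV _ (inv_mem htV), C.e_inv htV, het]
      funext i
      fin_cases i
      · change e z 0 + -(1 : F) = 0
        rw [h0, add_neg_cancel]
      · change e z 1 + -(0 : F) = 0
        rw [h1, neg_zero, add_zero]
  refine ⟨t, p, ⟨hPH.par, hPH.long, htZ, fun v hv u hu => ?_, hPH.ne', hp, fun u hu huV => ?_, hgen⟩, ht1,
    C.DV, hpD, fun u hu => (C.act u hu).choose_spec.2, hua, hut, fun v hv => ?_, ZD, ?_, ?_⟩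
  · by_cases huV : u ∈ centralizer (zl (S : Subgroup G) P : Set G)
    · left
      have h1 := mem_centralizer_iff.1 huV v hv
      rw [← h1]
      group
    · by_cases h1 : e v 1 = 0
      · left
        rw [C.c1 hc hPH hu hv h1, mul_inv_cancel]
      · exact Or.inr (c2 u hu huV v hv h1)
  · have huP : u ∈ P := hUP hu
    obtain ⟨b, d⟩ := C.act1 hc hPH hu huV
    have h1 : p * u⁻¹ * p⁻¹ * u * p ∈ centralizer (zl (S : Subgroup G) P : Set G) := by
      refine C.cent hc hPH (mul_mem (mul_mem (mul_mem (mul_mem hp (inv_mem huP)) (inv_mem hp)) huP) hp) ?_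
        (mul_mem (mul_mem (mul_mem (mul_mem hpD (inv_mem d)) (inv_mem hpD)) d) hpD)
      have nu : u ∈ normalizer (zl (S : Subgroup G) P : Set G) := nP huP
      have np : p ∈ normalizer (zl (S : Subgroup G) P : Set G) := nP hp
      have h3 := (((hpA.mul (b.inv nu) (inv_mem nu)).mul (hpA.inv np) (inv_mem np)).mul b nu).mul hpA np
      rw [word_eq] at h3
      intro x hx
      rw [h3 x hx, ap_one]
    exact hctZ h1
  · by_cases h1 : e v 1 = 0
    · left
      rw [mem_centralizer_iff]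
      intro u hu
      exact mul_inv_eq_iff_eq_mul.1 (C.c1 hc hPH hu hv h1)
    · right
      have h3 : e (v * a⁻¹) 1 = 0 := by
        rw [C.mul v hv _ (inv_mem haV), C.e_inv haV, hea, Pi.add_apply, Pi.neg_apply, C.eq_one h1]
        change (1 : F) + -1 = 0
        rw [add_neg_cancel]
      rw [mem_centralizer_iff]
      intro u hu
      exact mul_inv_eq_iff_eq_mul.1 (C.c1 hc hPH hu (mul_mem hv (inv_mem haV)) h3)
  · -- `p⁻¹ c p ∈ C(Z)` for `c ∈ S` trivial on `V / D`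
    have key : ∀ c ∈ (S : Subgroup G), e (c * a * c⁻¹) = ![0, 1] → p⁻¹ * c * p ∈ H := by
      intro c hcS hca
      have h1 := C.fix_a hc hPH htZ hp hpA hpD het hut hcS hca
      rw [← ha] at h1
      refine hPH.long.cz (mem_centralizer_iff.2 fun z hz => ?_)
      have hd : ∀ d ∈ D, d ∈ zc (S : Subgroup G) → d * (p⁻¹ * c * p) = p⁻¹ * c * p * d := by
        intro d hd hdZ
        have e1 := mem_centralizer_iff.1 hpD d hd
        have e2 := (mem_zc.1 hdZ).2.1 c hcS
        have e3 : d * p⁻¹ = p⁻¹ * d := by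
          calc d * p⁻¹ = p⁻¹ * (p * d) * p⁻¹ := by group
            _ = p⁻¹ * d := by rw [← e1]; group
        calc d * (p⁻¹ * c * p) = (d * p⁻¹) * c * p := by group
          _ = p⁻¹ * (d * c) * p := by rw [e3]; group
          _ = p⁻¹ * c * (d * p) := by rw [← e2]; group
          _ = p⁻¹ * c * p * d := by rw [e1]; group
      have ht : t * (p⁻¹ * c * p) = p⁻¹ * c * p * t := by
        calc t * (p⁻¹ * c * p) = p⁻¹ * (a * c) * p := by rw [ha]; group
          _ = p⁻¹ * (c * a) * p := by rw [h1]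
          _ = p⁻¹ * c * p * t := by rw [ha]; group
      rcases ZD z hz with h3 | h3
      · exact hd z h3 hz
      · have h4 := hd _ h3 (mul_mem hz (inv_mem htZ))
        calc z * (p⁻¹ * c * p) = z * t⁻¹ * (t * (p⁻¹ * c * p)) := by group
          _ = z * t⁻¹ * (p⁻¹ * c * p) * t := by rw [ht]; group
          _ = p⁻¹ * c * p * z := by rw [h4]; group
    intro s hs u hu huV
    have hsP : s ∈ P := hPH.par.le hs
    have h1 : e (s * a * s⁻¹) 1 = 1 := by
      refine C.eq_one fun h0 => ?_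
      have h3 := (C.line s hs a haV).1 h0
      rw [hea] at h3
      exact one_ne_zero h3
    rcases C.two (e (s * a * s⁻¹) 0) with h0 | h0
    · left
      refine key s hs ?_
      funext i
      fin_cases i
      · exact h0
      · exact h1
    · right
      refine key (u⁻¹ * s) (mul_mem (inv_mem (hUS hu)) hs) ?_
      have h3 : (u⁻¹ * s) * a * (u⁻¹ * s)⁻¹ = u⁻¹ * (s * a * s⁻¹) * u⁻¹⁻¹ := by group
      have h4 := ((C.act1 hc hPH hu huV).1.inv (nP (hUP hu))) _ (con hsP haV)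
      rw [h3, h4, up_inv, ap_up', h0, h1, hneg]
      funext i
      fin_cases i
      · simp [h2]
      · simp
  · intro z hz u hu huV hzu
    have hzV : z ∈ zl (S : Subgroup G) P := zc_le_zl _ _ hz
    obtain ⟨bu, du⟩ := C.act1 hc hPH hu huV
    have huP := hUP hu
    have hu'A := (hpA.mul bu (nP huP)).mul (hpA.inv (nP hp)) (inv_mem (nP hp))
    rw [conj_word] at hu'A
    have hu'P : p * u * p⁻¹ ∈ P := mul_mem (mul_mem hp huP) (inv_mem hp)
    have hu'D : p * u * p⁻¹ ∈ centralizer (D : Set G) := mul_mem (mul_mem hpD du) (inv_mem hpD)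
    have hu'z : p * u * p⁻¹ ∈ centralizer ({z} : Set G) := by
      rw [mem_centralizer_singleton_iff]
      exact hzu
    have huz : u ∈ centralizer ({z} : Set G) := by
      rw [mem_centralizer_singleton_iff]
      exact (mem_zc.1 hz).2.1 u (hUS hu)
    -- the elements realised in `C(z)`
    have hup : ∀ b : F, ∃ w ∈ centralizer ({z} : Set G), w ∈ P ∧ w ∈ centralizer (D : Set G) ∧
        Act e (zl (S : Subgroup G) P) w (up b) := by
      intro b
      rcases C.two b with rfl | rfl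
      · exact ⟨1, one_mem _, one_mem _, one_mem _, by rw [up_zero]; exact AOne.Act.one⟩
      · exact ⟨u, huz, huP, du, bu⟩
    have hlo : ∀ b : F, ∃ w ∈ centralizer ({z} : Set G), w ∈ P ∧ w ∈ centralizer (D : Set G) ∧
        Act e (zl (S : Subgroup G) P) w (lo b) := by
      intro b
      rcases C.two b with rfl | rfl
      · exact ⟨1, one_mem _, one_mem _, one_mem _, by rw [lo_zero]; exact AOne.Act.one⟩
      · exact ⟨_, hu'z, hu'P, hu'D, hu'A⟩
    refine C.gen _ (fun s hs => ?_) fun h hh hhD A hA => ?_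
    · rw [mem_centralizer_singleton_iff]
      exact (mem_zc.1 hz).2.1 s hs
    · obtain ⟨b1, b2, b3, b4, rfl⟩ := exists_up_lo A
      obtain ⟨w1, z1, p1, d1, a1⟩ := hup b1
      obtain ⟨w2, z2, p2, d2, a2⟩ := hlo b2
      obtain ⟨w3, z3, p3, d3, a3⟩ := hup b3
      obtain ⟨w4, z4, p4, d4, a4⟩ := hlo b4
      have h1 := ((a1.mul a2 (nP p2)).mul a3 (nP p3)).mul a4 (nP p4)
      have h3 := C.same hc hPH hh (mul_mem (mul_mem (mul_mem p1 p2) p3) p4) hA h1 hhD
        (mul_mem (mul_mem (mul_mem d1 d2) d3) d4) hzV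
      have h4 : w1 * w2 * w3 * w4 ∈ centralizer ({z} : Set G) := mul_mem (mul_mem (mul_mem z1 z2) z3) z4
      rw [mem_centralizer_singleton_iff] at h4 ⊢
      rw [← mul_inv_eq_iff_eq_mul, h3, h4, mul_inv_cancel_right]

end nat

end Crd

/-- **`Crd` from the FF theorem.** -/
theorem crd_of_natK [Finite G] {S : Sylow 2 G} {P H D : Subgroup G} {F : Type} [Field F]
    (hc : IsCharacteristicTwoType G) (hPH : PairA (S : Subgroup G) P H)
    (hoff : Off (zl (S : Subgroup G) P) (zl (S : Subgroup G) H)) (hF : ∀ x : F, x = 0 ∨ x = 1)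
    (M : NatK F (S : Subgroup G) P (zl (S : Subgroup G) P) D 1) (hDV : D ≤ zl (S : Subgroup G) P) :
    Crd F (S : Subgroup G) P H D fun g => M.e g 0 := by
  have hS := hPH.par.le
  have ker : ∀ v ∈ zl (S : Subgroup G) P, M.e v 0 = 0 ↔ v ∈ D := fun v hv => by
    rw [← M.ker v hv]
    constructor
    · intro h
      funext i
      rw [Subsingleton.elim i 0]
      exact h
    · intro h
      rw [h]
      rfl
  have hcon : ∀ {g v : G}, g ∈ P → v ∈ zl (S : Subgroup G) P → g * v * g⁻¹ ∈ zl (S : Subgroup G) P := fun hg hv =>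
    (mem_normalizer_iff.1 (le_normalizer_zl _ _ hg) _).1 hv
  have ker' : ∀ g ∈ P, ∀ v ∈ zl (S : Subgroup G) P, M.e (g * v * g⁻¹) 0 = 0 ↔ M.e v 0 = 0 := by
    intro g hg v hv
    obtain ⟨σ, hσ⟩ := M.perm g hg
    have h1 := hσ v hv 0
    rwa [Subsingleton.elim (σ 0) 0] at h1
  refine ⟨hF, fun v hv w hw => ?_, fun x => ?_, ker, hDV, ?_, fun A => ?_, fun s hs v hv => ?_, ?_, ?_⟩
  · rw [M.mul v hv w hw]
    rfl
  · obtain ⟨v, hv, h⟩ := M.surj fun _ => x
    exact ⟨v, hv, congrFun h 0⟩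
  · intro g hg
    rw [mem_normalizer_iff]
    intro x
    constructor
    · intro hx
      have hxW := hDV hx
      rw [← ker _ (hcon hg hxW), ker' g hg x hxW]
      exact (ker x hxW).2 hx
    · intro hx
      have hxW : x ∈ zl (S : Subgroup G) P := (mem_normalizer_iff.1 (le_normalizer_zl _ _ hg) _).2 (hDV hx)
      rw [← ker x hxW, ← ker' g hg x hxW]
      exact (ker _ (hcon hg hxW)).2 hx
  · obtain ⟨g, hg, h1, h2⟩ := M.lift fun _ => A
    exact ⟨g, hg, fun v hv => h1 v hv 0, mem_centralizer_iff.2 fun d hd => (h2 d hd).symm⟩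
  · obtain ⟨σ, hσ⟩ := M.line s hs
    have h3 := hσ v hv 0
    rwa [Subsingleton.elim (σ 0) 0] at h3
  · intro K h1 h2
    refine M.gen K h1 fun h hh A hA => h2 h hh (mem_centralizer_iff.2 fun d hd => (hA.2 d hd).symm) (A 0)
      fun v hv => hA.1 v hv 0
  · intro u hu
    obtain ⟨I, h1, -⟩ := M.off _ (IsLong.zl_le_S hc hPH.long) hoff
    obtain ⟨b, -, h3, h4⟩ := h1 u hu
    exact ⟨b 0, fun v hv => h3 v hv 0, mem_centralizer_iff.2 fun d hd => (h4 d hd).symm⟩

end Cfsg.Agent.Omega.NOThreeL.RAOne
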