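import Cfsg.Agent.Omega.NOThreeL.RAOne.Zero
import Cfsg.Agent.MinSimple.CaseD8

/-!
# NO-3L, R ∩ (A), `q = 2`, `k = 1` (#17122, helper858): (4), three groups

* `sharp` : `[u, y^g] ∈ y T` for the three groups `A`, `B = A^g`, `B^u`, `g = u v`, `u ∈ A`, `v ∈ B`;
* `Sit.*` : the three groups `U^t`, `(U^t)^p`, `(U^t)^{up}`, `T = U^t ∩ (U^t)^p`: `Sit.ga`, `Sit.conj_g`, `Sit.TY`,
  `Sit.tT`, `Sit.sharp`, `Sit.XD`, `Sit.not_XH`, `Sit.S_T` (`S` normalises `T`), `Sit.P_cent`.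
-/

set_option autoImplicit false
set_option linter.unusedSectionVars false

namespace Cfsg.Agent.Omega.NOThreeL.RAOne

open Subgroup Cfsg Cfsg.Agent.ZN Cfsg.Agent.Omega.MinPar Cfsg.Agent.Omega.Frame Cfsg.Agent.Omega.FrameNOFF
open Cfsg.Agent.Omega.Node.NO3L Cfsg.Agent.Omega.NOThreeL.Basic Cfsg.Agent.Omega.NOThreeL.RTransv
open Cfsg.Agent.Omega.NoFF.Basic (V conj_conj mem_conj conj_le_iff conj_le_centralizer comm_symm comm_mono
  Z_le_V V_le conj_V_mul)
open Cfsg.Agent.Omega.NOThreeL.Pair (conj_eq_of_mem conj_le_normalizer zl_abel)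
open Cfsg.Agent.MinSimple.VModule (zl_le le_normalizer_zl zc_le_zl zc_le mem_zc
  normalizer_le_normalizer_zc o2_isPGroup le_normalizer_o2 le_o2 o2_le)
open scoped Pointwise

universe u

variable {G : Type u} [Group G]

/-- Three groups `A`, `B`, `B^u = A^v`. -/
structure ThreeG (A B D : Subgroup G) (u v : G) : Prop where
  abA : ∀ x ∈ A, ∀ y ∈ A, x * y = y * x
  abB : ∀ x ∈ B, ∀ y ∈ B, x * y = y * x
  uA : u ∈ A
  vB : v ∈ B
  uu : u * u = 1
  vv : v * v = 1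
  swap : MulAut.conj v • A = MulAut.conj u • B
  DA : D ≤ normalizer (A : Set G)
  DB : D ≤ normalizer (B : Set G)
  uD : u ∈ normalizer (D : Set G)
  vD : v ∈ normalizer (D : Set G)

namespace ThreeG

variable {A B D : Subgroup G} {u v : G} (T : ThreeG A B D u v)
include T

theorem conj_g : MulAut.conj (u * v) • A = B := by
  rw [← conj_conj, T.swap, conj_conj, T.uu, map_one, one_smul]

theorem comm_mem_T {a b : G} (ha : a ∈ A ⊓ D) (hb : b ∈ B ⊓ D) : a * b * a⁻¹ * b⁻¹ ∈ A ⊓ B := by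
  have ha2 : a ∈ normalizer (B : Set G) := T.DB ha.2
  have hb2 : b ∈ normalizer (A : Set G) := T.DA hb.2
  refine mem_inf.mpr ⟨?_, ?_⟩
  · have h5 : a * b * a⁻¹ * b⁻¹ = a * (b * a⁻¹ * b⁻¹) := by group
    rw [h5]
    exact mul_mem ha.1 ((mem_normalizer_iff.mp hb2 _).mp (inv_mem ha.1))
  · exact B.mul_mem ((mem_normalizer_iff.mp ha2 _).mp hb.1) (B.inv_mem hb.1)

theorem conj_gD : u * v ∈ normalizer (D : Set G) := mul_mem T.uD T.vD

theorem mem_BD {y : G} (hy : y ∈ A ⊓ D) : (u * v) * y * (u * v)⁻¹ ∈ B ⊓ D := by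
  refine mem_inf.2 ⟨?_, (mem_normalizer_iff.1 T.conj_gD y).1 (mem_inf.1 hy).2⟩
  rw [← T.conj_g, mem_conj]
  have e : (u * v)⁻¹ * (u * v * y * (u * v)⁻¹) * (u * v) = y := by group
  rw [e]
  exact (mem_inf.1 hy).1

/-- **`[u, y^g] ∈ y T`**. -/
theorem third {y : G} (hy : y ∈ A ⊓ D) :
    u * ((u * v) * y * (u * v)⁻¹) * u⁻¹ * ((u * v) * y * (u * v)⁻¹)⁻¹ * y ∈ A ⊓ B := by
  have hyA := (mem_inf.1 hy).1
  have hyD := (mem_inf.1 hy).2
  set y0 : G := v * y * v⁻¹ * y⁻¹ with hy0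
  have h0 : y0 ∈ B ⊓ D := by
    refine mem_inf.2 ⟨?_, ?_⟩
    · have e : y0 = v * (y * v⁻¹ * y⁻¹) := by rw [hy0]; group
      rw [e]
      exact mul_mem T.vB ((mem_normalizer_iff.1 (T.DB hyD) _).1 (inv_mem T.vB))
    · exact mul_mem ((mem_normalizer_iff.1 T.vD y).1 hyD) (inv_mem hyD)
  set κ : G := u * y0 * u⁻¹ * y0⁻¹ with hκ
  have hk : κ ∈ A ⊓ D := by
    refine mem_inf.2 ⟨?_, ?_⟩
    · have e : κ = u * (y0 * u⁻¹ * y0⁻¹) := by rw [hκ]; group
      rw [e]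
      exact mul_mem T.uA ((mem_normalizer_iff.1 (T.DA (mem_inf.1 h0).2) _).1 (inv_mem T.uA))
    · exact mul_mem ((mem_normalizer_iff.1 T.uD y0).1 (mem_inf.1 h0).2) (inv_mem (mem_inf.1 h0).2)
  have hv : (u * v) * y * (u * v)⁻¹ = κ * y0 * y := by
    have h1 : (u * v) * y * (u * v)⁻¹ = u * (y0 * y) * u⁻¹ := by rw [hy0]; group
    have h2 : u * (y0 * y) * u⁻¹ = (u * y0 * u⁻¹) * (u * y * u⁻¹) := by group
    have h3 : u * y * u⁻¹ = y := by rw [T.abA u T.uA y hyA, mul_inv_cancel_right]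
    rw [h1, h2, h3, hκ]
    group
  have hvY := T.mem_BD hy
  rw [hv] at hvY ⊢
  -- `[u, v] = κ`
  have hcu : u * (κ * y0 * y) * u⁻¹ * (κ * y0 * y)⁻¹ = κ := by
    have h1 : u * κ = κ * u := T.abA u T.uA κ (mem_inf.mp hk).1
    have h3 : y * u⁻¹ = u⁻¹ * y := by
      have h4 := T.abA u T.uA y hyA
      calc y * u⁻¹ = u⁻¹ * (u * y) * u⁻¹ := by group
        _ = u⁻¹ * (y * u) * u⁻¹ := by rw [h4]
        _ = u⁻¹ * y := by group
    calc u * (κ * y0 * y) * u⁻¹ * (κ * y0 * y)⁻¹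
        = (u * κ) * y0 * (y * u⁻¹) * (κ * y0 * y)⁻¹ := by group
      _ = (κ * u) * y0 * (u⁻¹ * y) * (κ * y0 * y)⁻¹ := by rw [h1, h3]
      _ = κ * (u * y0 * u⁻¹ * y0⁻¹) * y0 * y * (κ * y0 * y)⁻¹ := by group
      _ = κ * κ * y0 * y * (κ * y0 * y)⁻¹ := by rw [← hκ]
      _ = κ := by group
  rw [hcu]
  -- `κ (y0 y y0⁻¹) ∈ A ∩ B`
  have h1 : κ * (y0 * y * y0⁻¹) ∈ A ⊓ B := by
    refine mem_inf.mpr ⟨?_, ?_⟩
    · exact mul_mem (mem_inf.mp hk).1 ((mem_normalizer_iff.1 (T.DA (mem_inf.1 h0).2) y).1 hyA)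
    · have e1 : κ * (y0 * y * y0⁻¹) = (κ * y0 * y) * y0⁻¹ := by group
      rw [e1]
      exact mul_mem (mem_inf.mp hvY).1 (inv_mem (mem_inf.mp h0).1)
  have h2 : y⁻¹ * y0 * y⁻¹⁻¹ * y0⁻¹ ∈ A ⊓ B := T.comm_mem_T (inv_mem hy) h0
  have e2 : κ * y = (κ * (y0 * y * y0⁻¹)) * (y⁻¹ * y0 * y⁻¹⁻¹ * y0⁻¹)⁻¹ := by group
  rw [e2]
  exact mul_mem h1 (inv_mem h2)

theorem sharp {y : G} (hy : y ∈ A ⊓ D) : ∃ s ∈ A ⊓ B,
    ((u * v) * y * (u * v)⁻¹)⁻¹ * u * ((u * v) * y * (u * v)⁻¹) = u * y * s := by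
  have h1 := T.third hy
  have h2 := T.mem_BD hy
  set w := (u * v) * y * (u * v)⁻¹ with hw
  set c := u * w * u⁻¹ * w⁻¹ with hc
  have hyA := (mem_inf.1 hy).1
  -- `c ∈ A ∩ D`
  have hcA : c ∈ A ⊓ D := by
    refine mem_inf.2 ⟨?_, ?_⟩
    · have e : c = u * (w * u⁻¹ * w⁻¹) := by rw [hc]; group
      rw [e]
      exact mul_mem T.uA ((mem_normalizer_iff.1 (T.DA (mem_inf.1 h2).2) _).1 (inv_mem T.uA))
    · exact mul_mem ((mem_normalizer_iff.1 T.uD w).1 (mem_inf.1 h2).2) (inv_mem (mem_inf.1 h2).2)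
  have h3 := T.comm_mem_T hcA (inv_mem h2)
  -- `c w⁻¹ c⁻¹ w ∈ T`
  set τ := c * w⁻¹ * c⁻¹ * w⁻¹⁻¹ with hτ
  have huu : u⁻¹ = u := inv_eq_of_mul_eq_one_left T.uu
  have e1 : w⁻¹ * u * w = u * (w⁻¹ * c⁻¹ * w) := by
    have e0 : u * (w⁻¹ * c⁻¹ * w) = u * u * w⁻¹ * u⁻¹ * w := by rw [hc]; group
    rw [e0, T.uu, one_mul, huu]
  have e2 : w⁻¹ * c⁻¹ * w = c⁻¹ * τ := by rw [hτ]; group
  have hτA := (mem_inf.1 h3).1
  -- `c⁻¹ τ = y s`
  refine ⟨(c * y)⁻¹ * τ, mul_mem (inv_mem h1) h3, ?_⟩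
  rw [e1, e2]
  have e3 : c⁻¹ = y * (c * y)⁻¹ := by group
  rw [e3]
  group

end ThreeG

namespace Sit

variable [Finite G] {S : Sylow 2 G} {P H D : Subgroup G} {t p : G}
variable (hc : IsCharacteristicTwoType G) (Da : Data (S : Subgroup G)) (T : Sit (S : Subgroup G) P H D t p)

include hc T

theorem threeG {u : G} (hu : u ∈ ut t H) (huV : u ∉ centralizer (zl (S : Subgroup G) P : Set G)) :
    ThreeG (ut t H) (MulAut.conj p • ut t H) (centralizer (zl (S : Subgroup G) P : Set G)) u (p * u * p⁻¹) := by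
  have huU := T.ut_le_U hu
  have hcV : p ∈ normalizer (centralizer (zl (S : Subgroup G) P : Set G) : Set G) := conj_cent T.pV
  have huu : u * u = 1 := T.sq hc u huU
  refine ⟨fun x hx y hy => ?_, fun x hx y hy => T.comm_of_conj hc (T.conj_ut_le hx) (T.conj_ut_le hy), hu, ?_,
    huu, ?_, ?_, T.cent_le.trans (le_normalizer_ut t H), ?_, conj_cent (T.uV hc huU), ?_⟩
  · exact mem_centralizer_iff.1 (T.ab hc (T.ut_le_U hy)) x (T.ut_le_U hx)
  · rw [mem_conj]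
    have e : p⁻¹ * (p * u * p⁻¹) * p = u := by group
    rwa [e]
  · have e : p * u * p⁻¹ * (p * u * p⁻¹) = p * (u * u) * p⁻¹ := by group
    rw [e, huu, mul_one, mul_inv_cancel]
  · have h0 := T.pt u huU huV
    have h1 := conj_eq_of_mem (le_normalizer_ut t H h0)
    rw [conj_conj]
    calc MulAut.conj (p * u * p⁻¹) • ut t H
        = MulAut.conj (p * u * p⁻¹) • (MulAut.conj (p * u⁻¹ * p⁻¹ * u * p) • ut t H) := by rw [h1]
      _ = MulAut.conj (u * p) • ut t H := by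
        rw [conj_conj]
        congr 2
        group
  · have h1 := conj_le_normalizer (g := p) (T.cent_le.trans (le_normalizer_ut t H))
    rwa [conj_eq_of_mem hcV] at h1
  · exact mul_mem (mul_mem hcV (conj_cent (T.uV hc huU))) (inv_mem hcV)

/-- `e^g = a`. -/
theorem ga {u : G} (hu : u ∈ ut t H) (huV : u ∉ centralizer (zl (S : Subgroup G) P : Set G)) :
    (u * (p * u * p⁻¹)) * t * (u * (p * u * p⁻¹))⁻¹ = p * t * p⁻¹ := by
  have huU := T.ut_le_U hu
  have h1 := T.ut' u huU huV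
  have h2 := T.ua u huU huV
  have h3 : u * t * u⁻¹ = t := by
    rw [(mem_zc.1 T.mem).2.1 u (T.US hc huU), mul_inv_cancel_right]
  calc (u * (p * u * p⁻¹)) * t * (u * (p * u * p⁻¹))⁻¹
      = u * ((p * u * p⁻¹) * t * (p * u * p⁻¹)⁻¹) * u⁻¹ := by group
    _ = (u * (p * t * p⁻¹) * u⁻¹) * (u * t * u⁻¹) := by rw [h1]; group
    _ = p * t * p⁻¹ * (t * t) := by rw [h2, h3]; group
    _ = p * t * p⁻¹ := by rw [T.tt hc, mul_one]

/-- `a` commutes with `T` -/
theorem a_B : p * t * p⁻¹ ∈ MulAut.conj p • ut t H := by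
  rw [mem_conj]
  have e : p⁻¹ * (p * t * p⁻¹) * p = t := by group
  rw [e]
  exact mem_ut t H

theorem TY : Tt t p H ≤ centralizer (zl (S : Subgroup G) P : Set G) := by
  intro x hx
  have hxU : x ∈ zl (S : Subgroup G) H := T.ut_le_U hx.1
  have h1 := T.comm_of_conj hc (T.conj_ut_le hx.2) (T.conj_ut_le (T.a_B hc))
  rw [mem_centralizer_iff]
  intro v hv
  rcases T.Va v hv with h2 | h2
  · exact (mem_centralizer_iff.1 h2 x hxU).symm
  · have h3 := mem_centralizer_iff.1 h2 x hxU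
    calc v * x = (v * (p * t * p⁻¹)⁻¹) * ((p * t * p⁻¹) * x) := by group
      _ = (x * (v * (p * t * p⁻¹)⁻¹)) * (p * t * p⁻¹) := by rw [← h1, h3]; group
      _ = x * v := by group

theorem tT : t ∉ Tt t p H := by
  intro h
  obtain ⟨u, hu, huU, huV⟩ := T.exists_u hc
  have h1 := (T.threeG hc hu huV).abB t h.2 _ (T.threeG hc hu huV).vB
  have h2 := T.ut' u huU huV
  rw [← h1, mul_inv_cancel_right] at h2
  have h3 : p * t * p⁻¹ = 1 := mul_eq_right.1 h2.symm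
  apply T.t1
  calc t = p⁻¹ * (p * t * p⁻¹) * p := by group
    _ = 1 := by rw [h3]; group

theorem XT : ut t H ⊔ MulAut.conj p • ut t H ≤ centralizer (Tt t p H : Set G) := by
  obtain ⟨u, hu, -, huV⟩ := T.exists_u hc
  have h := T.threeG hc hu huV
  refine sup_le (fun x hx => mem_centralizer_iff.2 fun y hy => ?_)
    (fun x hx => mem_centralizer_iff.2 fun y hy => ?_)
  · exact h.abA y hy.1 x hx
  · exact h.abB y hy.2 x hx

omit hc in
theorem XD : ut t H ⊔ MulAut.conj p • ut t H ≤ centralizer (D : Set G) := by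
  have h1 : ut t H ≤ centralizer (D : Set G) := T.ut_le_U.trans T.UD
  refine sup_le h1 ?_
  have h2 := conj_le_iff (g := p).2 h1
  rwa [conj_eq_of_mem (le_normalizer T.pD)] at h2

theorem not_XH : ¬ ut t H ⊔ MulAut.conj p • ut t H ≤ H := by
  intro h
  obtain ⟨u, hu, huU, huV⟩ := T.exists_u hc
  have h3 := T.threeG hc hu huV
  have hg : u * (p * u * p⁻¹) ∈ H :=
    h (mul_mem ((le_sup_left : ut t H ≤ _) hu) ((le_sup_right : MulAut.conj p • ut t H ≤ _) h3.vB))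
  have h1 := T.ga hc hu huV
  have h2 : p * t * p⁻¹ ∈ zl (S : Subgroup G) H := by
    rw [← h1]
    exact (mem_normalizer_iff.1 (le_normalizer_zl _ _ hg) t).1 T.t_mem
  exact T.a_moved huU huV (mem_centralizer_iff.1 (T.ab hc h2) u huU)

/-- `S` normalises `T`. -/
theorem S_T : (S : Subgroup G) ≤ normalizer (Tt t p H : Set G) := by
  obtain ⟨u, hu, huU, huV⟩ := T.exists_u hc
  intro s hs
  refine mem_normalizer_of_conj ?_
  have hsA := conj_eq_of_mem (le_normalizer_ut t H (T.SH hs))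
  have h0 : MulAut.conj s • Tt t p H = ut t H ⊓ MulAut.conj (s * p) • ut t H := by
    rw [Tt, smul_inf, hsA, conj_conj]
  rw [h0]
  rcases T.Sp s hs u huU huV with h1 | h1
  · have h2 := conj_eq_of_mem (le_normalizer_ut t H h1)
    have h3 : MulAut.conj (s * p) • ut t H = MulAut.conj p • ut t H := by
      calc MulAut.conj (s * p) • ut t H = MulAut.conj p • (MulAut.conj (p⁻¹ * s * p) • ut t H) := by
            rw [conj_conj]
            congr 2
            group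
        _ = MulAut.conj p • ut t H := by rw [h2]
    rw [h3]
    rfl
  · have h2 := conj_eq_of_mem (le_normalizer_ut t H h1)
    have h3 : MulAut.conj (s * p) • ut t H = MulAut.conj u • (MulAut.conj p • ut t H) := by
      calc MulAut.conj (s * p) • ut t H
          = MulAut.conj (u * p) • (MulAut.conj (p⁻¹ * (u⁻¹ * s) * p) • ut t H) := by
            rw [conj_conj]
            congr 2
            group
        _ = MulAut.conj u • (MulAut.conj p • ut t H) := by rw [h2, conj_conj]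
    have h4 := conj_eq_of_mem (le_normalizer (H := ut t H) hu)
    have h5 : MulAut.conj u • Tt t p H = Tt t p H :=
      conj_eq_of_mem (centralizer_le_normalizer _ (T.XT hc ((le_sup_left : ut t H ≤ _) hu)))
    calc ut t H ⊓ MulAut.conj (s * p) • ut t H
        = MulAut.conj u • Tt t p H := by
          rw [h3, Tt, smul_inf, h4]
      _ = Tt t p H := h5

theorem P_cent {z : G} (hz : z ∈ zc (S : Subgroup G)) (hzT : z ∈ Tt t p H) : P ≤ centralizer ({z} : Set G) := by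
  obtain ⟨u, hu, huU, huV⟩ := T.exists_u hc
  have h := T.threeG hc hu huV
  exact T.cen z hz u huU huV (h.abB _ h.vB z hzT.2)

include Da in
/-- **`T ∩ I = 1`**. -/
theorem TI : Tt t p H ⊓ ii t p H = ⊥ := by
  by_contra hne
  have hIH : H ≤ normalizer (ii t p H : Set G) := fun g hg =>
    mem_normalizer_inf (le_normalizer_ut t H hg) (conj_cent (le_normalizer_ut (p * t * p⁻¹) H hg))
  have hS : (S : Subgroup G) ≤ normalizer ((Tt t p H ⊓ ii t p H : Subgroup G) : Set G) := fun s hs =>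
    mem_normalizer_inf (T.S_T hc hs) (hIH (T.SH hs))
  obtain ⟨z, hz, hzZ, hz1⟩ := Cfsg.Agent.MinSimple.CaseD8.exists_mem_zc S.isPGroup'
    ((inf_le_left.trans (inf_le_left.trans T.ut_le_U)).trans (T.US hc)) hS hne
  have hP := T.P_cent hc hzZ hz.1
  have hHz : H ≤ centralizer ({z} : Set G) := by
    refine (T.H_le hc Da).trans (sup_le ?_ ?_)
    · intro n hn
      rw [mem_centralizer_singleton_iff]
      exact mem_centralizer_iff.1 hz.2.2 n hn
    · intro c hc'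
      rw [mem_centralizer_singleton_iff]
      exact (mem_centralizer_iff.1 hc' z hzZ).symm
  obtain ⟨u, hu, huU, huV⟩ := T.exists_u hc
  have hPH : PairA (S : Subgroup G) P H := ⟨T.par, T.long, fun h => T.ne (comm_symm h)⟩
  have h1 := RTransv.inf_eq_bot hc hPH
  have h2 : z ∈ zc (S : Subgroup G) ⊓ centralizer (P : Set G) ⊓ centralizer (H : Set G) := by
    refine mem_inf.2 ⟨mem_inf.2 ⟨hzZ, mem_centralizer_iff.2 fun x hx => ?_⟩, mem_centralizer_iff.2 fun x hx => ?_⟩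
    · exact mem_centralizer_singleton_iff.1 (hP hx)
    · exact mem_centralizer_singleton_iff.1 (hHz hx)
  rw [h1, mem_bot] at h2
  exact hz1 h2

end Sit

end Cfsg.Agent.Omega.NOThreeL.RAOne
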