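import Cfsg.Agent.Omega.NOThreeL.RAOne.Nat

/-!
# NO-3L, R ∩ (A), `q = 2`, `k = 1` (#17122, helper858): (0)

`Sit S P H D t p` : `NatS`, and `H` is minimal among the long groups with `[V_P, U_H] ≠ 1`.
`a = p t p⁻¹`, `nn = ⟨a^H⟩`, `yy = U^t ∩ C(V)`, `ii = U^t ∩ C(nn)`, `kk = C_H(t)`, `ww = ⟨V_{P'}^k⟩`.

* (a) `Sit.H_le`, `Sit.htr`; (c) `Sit.U_le`, `Sit.H_act`, `Sit.cent_U`; (d) `Sit.faith`;
* (e) `Sit.V_le_o2`, `Sit.W_cent`; `Sit.exists_moved`, `Sit.tW`.
-/

set_option autoImplicit false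
set_option linter.unusedSectionVars false

namespace Cfsg.Agent.Omega.NOThreeL.RAOne

open Subgroup Cfsg Cfsg.Agent.ZN Cfsg.Agent.Omega.MinPar Cfsg.Agent.Omega.Frame Cfsg.Agent.Omega.FrameNOFF
open Cfsg.Agent.Omega.Node.NO3L Cfsg.Agent.Omega.NOThreeL.Basic Cfsg.Agent.Omega.NOThreeL.RTransv
open Cfsg.Agent.Omega.NoFF.Basic (V conj_conj mem_conj conj_le_iff conj_le_centralizer comm_symm comm_mono
  Z_le_V V_le conj_V_mul)
open Cfsg.Agent.Omega.NOThreeL.Pair (conj_eq_of_mem conj_le_normalizer zl_abel)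
open Cfsg.Agent.MinSimple.VModule (zl_le le_normalizer_zl zc_le_zl zc_le mem_zc
  normalizer_le_normalizer_zc o2_isPGroup le_normalizer_o2 le_o2 o2_le)
open scoped Pointwise

universe u

variable {G : Type u} [Group G]

/-- `⟨a^H⟩`, `a = p t p⁻¹` -/
def nn (t p : G) (H : Subgroup G) : Subgroup G := ut (p * t * p⁻¹) H

/-- `C_{U^t}(⟨a^H⟩)` -/
def ii (t p : G) (H : Subgroup G) : Subgroup G := ut t H ⊓ centralizer (nn t p H : Set G)

/-- `C_{U^t}(V_P)` -/
def yy (S P H : Subgroup G) (t : G) : Subgroup G := ut t H ⊓ centralizer (zl S P : Set G)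

/-- `C_H(t)` -/
def kk (t : G) (H : Subgroup G) : Subgroup G := H ⊓ centralizer ({t} : Set G)

/-- the product of the lines in `H` on `t` -/
def ww (S H : Subgroup G) (t : G) : Subgroup G :=
  closure {x | ∃ k ∈ kk t H, ∃ P', IsParS S P' ∧ P' ≤ H ∧ x ∈ MulAut.conj k • zl S P'}

/-- The situation of #17122: `NatS` and `H` is minimal. -/
structure Sit (S P H D : Subgroup G) (t p : G) : Prop extends NatS S P H D t p where
  min : ∀ H' : Subgroup G, IsLong S H' → H' ≤ H → H' ≠ H → zl S P ≤ centralizer (zl S H' : Set G)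

theorem normalizer_le_o2 (X : Subgroup G) : normalizer (X : Set G) ≤ normalizer (o2 X : Set G) := by
  intro g hg
  refine mem_normalizer_of_conj ?_
  have h1 := Cfsg.Agent.ZN.ChoiceSit.o2_cj g X
  have h2 : Cfsg.Agent.ZN.ChoiceBase.cj g X = X := conj_eq_of_mem hg
  rw [h2] at h1
  exact h1.symm

theorem mem_kk {t x : G} {H : Subgroup G} : x ∈ kk t H ↔ x ∈ H ∧ x * t = t * x := by
  rw [kk, mem_inf, mem_centralizer_singleton_iff]

namespace Sit

section nofin

variable {S P H D : Subgroup G} {t p : G} (T : Sit S P H D t p)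
include T

theorem tV : t ∈ zl S P := zc_le_zl _ _ T.mem

theorem aV : p * t * p⁻¹ ∈ zl S P := (mem_normalizer_iff.1 (le_normalizer_zl _ _ T.pmem) t).1 T.tV

theorem conj_t {c : G} (hc : c ∈ CZ S) : c * t * c⁻¹ = t := by
  rw [← mem_centralizer_iff.1 hc t T.mem, mul_inv_cancel_right]

end nofin

variable [Finite G] {S : Sylow 2 G} {P H D : Subgroup G} {t p : G}
variable (hc : IsCharacteristicTwoType G) (Da : Data (S : Subgroup G)) (T : Sit (S : Subgroup G) P H D t p)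

include hc T

theorem aH : p * t * p⁻¹ ∈ H := T.SH (T.VS hc T.aV)

theorem nnH : nn t p H ≤ H := ut_le fun _ hx => mul_mem (mul_mem hx (T.aH hc)) (inv_mem hx)

theorem tt : t * t = 1 := T.sq hc t T.t_mem

omit hc in
theorem a_mem_nn : p * t * p⁻¹ ∈ nn t p H := mem_ut _ _

theorem exists_u : ∃ u ∈ ut t H, u ∈ zl (S : Subgroup G) H ∧ u ∉ centralizer (zl (S : Subgroup G) P : Set G) := by
  obtain ⟨u, hu, huV⟩ := SetLike.not_le_iff_exists.1 (T.not_le hc)
  exact ⟨u, hu, T.ut_le_U hu, huV⟩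

omit hc in
/-- `a` is moved by `u` -/
theorem a_moved {u : G} (hu : u ∈ zl (S : Subgroup G) H) (huV : u ∉ centralizer (zl (S : Subgroup G) P : Set G)) :
    u * (p * t * p⁻¹) ≠ p * t * p⁻¹ * u := by
  intro h
  have h1 := T.ua u hu huV
  rw [h, mul_inv_cancel_right] at h1
  exact T.t1 (mul_eq_left.1 h1.symm)

include Da in
/-- **(0)(a)** : `H = ⟨a^H⟩ C`. -/
theorem H_le : H ≤ nn t p H ⊔ CZ (S : Subgroup G) := by
  by_contra hcon
  set H₁ := nn t p H ⊔ CZ (S : Subgroup G) with hH₁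
  have hle : H₁ ≤ H := sup_le (T.nnH hc) T.long.cz
  have hC : CZ (S : Subgroup G) ≤ H₁ := le_sup_right
  have hS : (S : Subgroup G) ≤ H₁ := (le_CZ S).trans hC
  have hL : IsLong (S : Subgroup G) H₁ := ⟨T.long.loc.of_le S hS hle, hC⟩
  have h1 := T.min H₁ hL hle fun h => hcon h.ge
  have h2 : zl (S : Subgroup G) P ≤ o2 H₁ := le_o2_of_comm (Da.low P T.par) hL h1
  have h3 : p * t * p⁻¹ ∈ o2 (nn t p H) := by
    refine (le_o2 (inf_le_right : o2 H₁ ⊓ nn t p H ≤ _) ((o2_isPGroup H₁).to_le inf_le_left) ?_)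
      ⟨h2 T.aV, T.a_mem_nn⟩
    intro g hg
    exact mem_normalizer_inf (le_normalizer_o2 _ ((le_sup_left : nn t p H ≤ H₁) hg)) (le_normalizer hg)
  have h4 : H ≤ normalizer (o2 (nn t p H) : Set G) :=
    (le_normalizer_ut (p * t * p⁻¹) H).trans (normalizer_le_o2 _)
  have h5 : p * t * p⁻¹ ∈ o2 H := le_o2 ((o2_le _).trans (T.nnH hc)) (o2_isPGroup _) h4 h3
  obtain ⟨u, -, hu, huV⟩ := T.exists_u hc
  refine T.a_moved hu huV ?_
  exact ((mem_zc.1 (T.long.loc.zl_le S hc hu)).2.1 _ h5).symm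

include Da in
theorem exists_nc {h : G} (hh : h ∈ H) : ∃ n ∈ nn t p H, ∃ c ∈ CZ (S : Subgroup G), h = n * c := by
  have h1 := T.H_le hc Da hh
  have h2 : CZ (S : Subgroup G) ≤ normalizer (nn t p H : Set G) :=
    T.long.cz.trans (le_normalizer_ut (p * t * p⁻¹) H)
  have h3 : h ∈ ((nn t p H : Set G) * (CZ (S : Subgroup G) : Set G)) := by
    rw [← coe_mul_of_right_le_normalizer_left _ _ h2]
    exact h1
  obtain ⟨n, hn, c, hc', rfl⟩ := Set.mem_mul.1 h3
  exact ⟨n, hn, c, hc', rfl⟩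

include Da in
/-- the points are conjugate under `⟨a^H⟩` -/
theorem htr {h : G} (hh : h ∈ H) : ∃ n ∈ nn t p H, h * t * h⁻¹ = n * t * n⁻¹ := by
  obtain ⟨n, hn, c, hc', rfl⟩ := T.exists_nc hc Da hh
  refine ⟨n, hn, ?_⟩
  have e : n * c * t * (n * c)⁻¹ = n * (c * t * c⁻¹) * n⁻¹ := by group
  rw [e, T.conj_t hc']

theorem nn_act : nn t p H ≤ act (zl (S : Subgroup G) H) (ut t H) := by
  refine ut_le fun h hh => ?_
  exact (mem_normalizer_iff.1 (conj_act (le_normalizer_zl _ _ hh) (le_normalizer_ut t H hh)) _).1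
    (T.le_act (T.VS hc) (mem_ut t H) T.aV)

include Da in
/-- **(0)(c)**: `U = U^t Z`. -/
theorem U_le : zl (S : Subgroup G) H ≤ ut t H ⊔ zc (S : Subgroup G) := by
  change V (zc (S : Subgroup G)) H ≤ _
  refine V_le fun h hh z hz => ?_
  rw [mem_conj] at hz
  obtain ⟨n, hn, c, hc', rfl⟩ := T.exists_nc hc Da hh
  set z₀ := (n * c)⁻¹ * z * (n * c) with hz₀
  have h1 : c * z₀ * c⁻¹ = z₀ := by
    rw [← mem_centralizer_iff.1 hc' z₀ hz, mul_inv_cancel_right]
  have h2 := (T.nn_act hc hn).2 z₀ (zc_le_zl _ _ hz)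
  have h3 : z = n * z₀ * n⁻¹ := by
    calc z = n * (c * z₀ * c⁻¹) * n⁻¹ := by rw [hz₀]; group
      _ = n * z₀ * n⁻¹ := by rw [h1]
  have h4 : z = (n * z₀ * n⁻¹ * z₀⁻¹) * z₀ := by rw [h3]; group
  rw [h4]
  exact mul_mem ((le_sup_left : ut t H ≤ _) h2) ((le_sup_right : zc (S : Subgroup G) ≤ _) hz)

include Da in
/-- elements of `U` -/
theorem exists_uz {x : G} (hx : x ∈ zl (S : Subgroup G) H) :
    ∃ y ∈ ut t H, ∃ z ∈ zc (S : Subgroup G), x = y * z := by
  have h1 := T.U_le hc Da hx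
  have h2 : zc (S : Subgroup G) ≤ normalizer (ut t H : Set G) :=
    ((zc_le _).trans T.SH).trans (le_normalizer_ut t H)
  have h3 : x ∈ ((ut t H : Set G) * (zc (S : Subgroup G) : Set G)) := by
    rw [← coe_mul_of_right_le_normalizer_left _ _ h2]
    exact h1
  obtain ⟨n, hn, c, hc', rfl⟩ := Set.mem_mul.1 h3
  exact ⟨n, hn, c, hc', rfl⟩

include Da in
/-- `H` acts trivially on `U / U^t`. -/
theorem H_act : H ≤ act (zl (S : Subgroup G) H) (ut t H) := by
  intro h hh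
  refine ⟨le_normalizer_zl _ _ hh, fun x hx => ?_⟩
  obtain ⟨y, hy, z, hz, rfl⟩ := T.exists_uz hc Da hx
  have h1 : h * z * h⁻¹ * z⁻¹ ∈ ut t H := by
    obtain ⟨n, hn, c, hc', rfl⟩ := T.exists_nc hc Da hh
    have h1 : c * z * c⁻¹ = z := by
      rw [← mem_centralizer_iff.1 hc' z hz, mul_inv_cancel_right]
    have h2 := (T.nn_act hc hn).2 z (zc_le_zl _ _ hz)
    have e : n * c * z * (n * c)⁻¹ * z⁻¹ = n * (c * z * c⁻¹) * n⁻¹ * z⁻¹ := by group
    rw [e, h1]
    exact h2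
  have h2 : h * y * h⁻¹ ∈ ut t H := (mem_normalizer_iff.1 (le_normalizer_ut t H hh) y).1 hy
  have e : h * (y * z) * h⁻¹ * (y * z)⁻¹ = (h * y * h⁻¹) * (h * z * h⁻¹ * z⁻¹) * y⁻¹ := by group
  rw [e]
  exact mul_mem (mul_mem h2 h1) (inv_mem hy)

include Da in
/-- **(0)(c)**: `C_H(U^t) = C_H(U)`. -/
theorem cent_U {x : G} (hx : x ∈ H) (hxU : x ∈ centralizer (ut t H : Set G)) :
    x ∈ centralizer (zl (S : Subgroup G) H : Set G) :=
  le_centralizer S T.SH T.ut_le_U (le_normalizer_ut t H) (T.sq hc) (T.H_act hc Da hx) hxU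

/-- **(0)(d)** -/
theorem faith {J : Subgroup G} (hJ : J ≤ ut t H) (hHJ : H ≤ normalizer (J : Set G)) {x : G}
    (hx : x ∈ act (ut t H) J) (hxJ : x ∈ centralizer (J : Set G)) :
    x ∈ centralizer (ut t H : Set G) := by
  have key : ∀ h ∈ H, h * x * h⁻¹ * t = t * (h * x * h⁻¹) := by
    intro h hh
    obtain ⟨s, hs, d, hd, e⟩ := RTransv.exists_mul S (g := h * x * h⁻¹) hJ
      (fun u hu => T.sq hc u (T.ut_le_U hu)) (T.SH.trans (le_normalizer_ut t H)) (T.SH.trans hHJ)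
      ((le_sup_left : act _ J ⊓ _ ≤ _)
        ⟨(mem_normalizer_iff.1 (conj_act (le_normalizer_ut t H hh) (hHJ hh)) x).1 hx,
          (mem_normalizer_iff.1 (conj_cent (hHJ hh)) x).1 hxJ⟩)
    rw [e]
    have h1 := (mem_zc.1 T.mem).2.1 s hs
    have h2 := mem_centralizer_iff.1 hd t (mem_ut t H)
    calc s * d * t = s * (d * t) := by group
      _ = (s * t) * d := by rw [← h2]; group
      _ = t * (s * d) := by rw [h1]; group
  have h1 : ut t H ≤ centralizer ({x} : Set G) := by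
    refine ut_le fun h hh => ?_
    rw [mem_centralizer_singleton_iff]
    have h2 := key h⁻¹ (inv_mem hh)
    rw [inv_inv] at h2
    calc h * t * h⁻¹ * x = h * (t * (h⁻¹ * x * h)) * h⁻¹ := by group
      _ = h * (h⁻¹ * x * h * t) * h⁻¹ := by rw [h2]
      _ = x * (h * t * h⁻¹) := by group
  rw [mem_centralizer_iff]
  intro y hy
  exact mem_centralizer_singleton_iff.1 (h1 hy)

/-! ### (e) -/

omit hc in
theorem CZ_kk : CZ (S : Subgroup G) ≤ kk t H := by
  refine le_inf T.long.cz fun c hc' => ?_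
  rw [mem_centralizer_singleton_iff]
  exact (mem_centralizer_iff.1 hc' t T.mem).symm

omit hc in
theorem S_kk : (S : Subgroup G) ≤ kk t H := (le_CZ S).trans T.CZ_kk

omit hc in
theorem kk_long : IsLong (S : Subgroup G) (kk t H) := ⟨T.long.loc.of_le S T.S_kk inf_le_left, T.CZ_kk⟩

theorem not_fix : ¬ H ≤ centralizer ({t} : Set G) := by
  intro h
  refine T.not_le hc (ut_le fun x hx => ?_)
  have h1 : x * t * x⁻¹ = t := by
    rw [mem_centralizer_singleton_iff.1 (h hx), mul_inv_cancel_right]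
  rw [h1, mem_centralizer_iff]
  intro v hv
  exact (mem_zc.1 T.mem).2.1 v (T.VS hc hv)

theorem kk_ne : kk t H ≠ H := fun h => T.not_fix hc (by
  rw [← h]
  exact inf_le_right)

include Da in
/-- **(0)(e)** -/
theorem V_le_o2 : zl (S : Subgroup G) P ≤ o2 (kk t H) :=
  le_o2_of_comm (Da.low P T.par) T.kk_long (T.min _ T.kk_long inf_le_left (T.kk_ne hc))

omit hc [Finite G] T in
theorem W_le_U : ww (S : Subgroup G) H t ≤ zl (S : Subgroup G) H := by
  rw [ww, closure_le]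
  rintro x ⟨k, hk, P', hP', hP'H, hx⟩
  have h1 : zl (S : Subgroup G) P' ≤ zl (S : Subgroup G) H :=
    zl_le (zc_le_zl _ _) (hP'H.trans (le_normalizer_zl _ _))
  have h2 := conj_le_iff (g := k).2 h1
  rw [conj_eq_of_mem (le_normalizer_zl _ _ (mem_inf.1 hk).1)] at h2
  exact h2 hx

omit hc [Finite G] T in
theorem norm_W : kk t H ≤ normalizer (ww (S : Subgroup G) H t : Set G) := by
  refine le_normalizer_closure ?_
  rintro g hg x ⟨k, hk, P', hP', hP'H, hx⟩
  refine ⟨g * k, mul_mem hg hk, P', hP', hP'H, ?_⟩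
  rw [mem_conj] at hx ⊢
  have e : (g * k)⁻¹ * (g * x * g⁻¹) * (g * k) = k⁻¹ * x * k := by group
  rwa [e]

omit hc [Finite G] T in
theorem line_le_W {k : G} (hk : k ∈ kk t H) {P' : Subgroup G} (hP' : IsParS (S : Subgroup G) P') (hP'H : P' ≤ H) :
    MulAut.conj k • zl (S : Subgroup G) P' ≤ ww (S : Subgroup G) H t := fun _ hx =>
  subset_closure ⟨k, hk, P', hP', hP'H, hx⟩

omit hc [Finite G] T in
theorem W_le {A : Subgroup G} (h : ∀ k ∈ kk t H, ∀ P', IsParS (S : Subgroup G) P' → P' ≤ H →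
    MulAut.conj k • zl (S : Subgroup G) P' ≤ A) : ww (S : Subgroup G) H t ≤ A := by
  rw [ww, closure_le]
  rintro x ⟨k, hk, P', hP', hP'H, hx⟩
  exact h k hk P' hP' hP'H hx

include Da in
/-- **(0)(e)**: `[W, V] = 1`. -/
theorem W_cent : ww (S : Subgroup G) H t ≤ centralizer (zl (S : Subgroup G) P : Set G) := by
  refine W_le fun k hk P' hP' hP'H => ?_
  have hkH := (mem_inf.1 hk).1
  have h1 : zl (S : Subgroup G) P ≤ normalizer ((MulAut.conj k • zl (S : Subgroup G) P' : Subgroup G) : Set G) := by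
    have h2 : o2 (kk t H) ≤ MulAut.conj k • (S : Subgroup G) := by
      rw [← conj_eq_of_mem (le_normalizer_o2 _ hk)]
      exact conj_le_iff.2 (T.kk_long.loc.o2_le S)
    refine (T.V_le_o2 hc Da).trans (h2.trans ?_)
    exact conj_le_normalizer (hP'.le.trans (le_normalizer_zl _ _))
  have h2 : MulAut.conj k • zl (S : Subgroup G) P' ≤ normalizer (zl (S : Subgroup G) P : Set G) := by
    have h3 : MulAut.conj k • zl (S : Subgroup G) P' ≤ zl (S : Subgroup G) H :=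
      (line_le_W hk hP' hP'H).trans W_le_U
    exact fun x hx => T.uV hc (h3 hx)
  have h3 := commute_of_not_FF Da.noff T.par hP' k h1 h2
  rw [commutator_eq_bot_iff_le_centralizer] at h3
  exact comm_symm h3

theorem exists_par : ∃ P', IsParS (S : Subgroup G) P' ∧ P' ≤ H := by
  by_contra hcon
  push Not at hcon
  refine T.not_fix hc (T.gen _ (fun c hc' => ?_) fun P' h1 h2 => absurd h2 (hcon P' h1))
  rw [mem_centralizer_singleton_iff]
  exact (mem_centralizer_iff.1 hc' t T.mem).symm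

theorem tW : t ∈ ww (S : Subgroup G) H t := by
  obtain ⟨P', h1, h2⟩ := T.exists_par hc
  have h3 := line_le_W (S := S) (one_mem (kk t H)) h1 h2
  rw [map_one, one_smul] at h3
  exact h3 (zc_le_zl _ _ T.mem)

/-- **(6)**: `PP ∩ W ≠ {t}`. -/
theorem exists_moved : ∃ x ∈ H, x * t * x⁻¹ ∈ ww (S : Subgroup G) H t ∧ x * t * x⁻¹ ≠ t := by
  by_contra hcon
  push Not at hcon
  refine T.not_fix hc (T.gen _ (fun c hc' => ?_) fun P' h1 h2 => ?_)
  · rw [mem_centralizer_singleton_iff]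
    exact (mem_centralizer_iff.1 hc' t T.mem).symm
  · intro x hx
    have h3 := line_le_W (S := S) (one_mem (kk t H)) h1 h2
    rw [map_one, one_smul] at h3
    have h4 := hcon x (h2 hx) (h3 ((mem_normalizer_iff.1 (le_normalizer_zl _ _ hx) t).1 (zc_le_zl _ _ T.mem)))
    rw [mem_centralizer_singleton_iff]
    exact mul_inv_eq_iff_eq_mul.1 h4

end Sit

end Cfsg.Agent.Omega.NOThreeL.RAOne
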